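import Cfsg.Agent.H640.Tits.Geo
import Cfsg.Agent.H873.Tits.End

/-!
# S3414: orders

For a strongly transitive generalized `n`-gon, `m = n / 2`, `Q = q true * q false`:
`card_S`: `|S v| = (q v + 1) Q^m |H p|`;  `card_V`: there are `(1 + q (!a)) (1 + Q + ... + Q^(m-1))` vertices of type `a`;
`card_G`: `|G| = (1 + q true) (1 + q false) (1 + Q + ... + Q^(m-1)) Q^m |H p|`.
-/

set_option autoImplicit false

namespace Cfsg.Agent.H736.Tits

open Cfsg.Agent.H873.Tits Cfsg.Agent.H640.Tits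
open scoped commutatorElement

universe u v

variable {G : Type u} [Group G] {V : Type v} [MulAction G V]

/-- orbit-stabilizer -/
theorem card_orbit {A : Subgroup G} {w : V} {O : Set V} (h1 : ∀ x ∈ O, ∃ g ∈ A, g • w = x)
    (h2 : ∀ g ∈ A, g • w ∈ O) : Nat.card ↥A = Nat.card ↥O * Nat.card ↥(A ⊓ MulAction.stabilizer G w) := by
  have e1 : MulAction.orbit ↥A w = O := by
    ext x
    constructor
    · rintro ⟨g, rfl⟩; exact h2 _ g.2
    · intro hx
      obtain ⟨g, hg, rfl⟩ := h1 x hx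
      exact ⟨⟨g, hg⟩, rfl⟩
  have e2 : (MulAction.stabilizer ↥A w).map A.subtype = A ⊓ MulAction.stabilizer G w := by
    ext x
    constructor
    · rintro ⟨y, hy, rfl⟩; exact ⟨y.2, hy⟩
    · rintro ⟨hx, hx'⟩; exact ⟨⟨x, hx⟩, hx', rfl⟩
  rw [← e2, Nat.card_congr ((MulAction.stabilizer ↥A w).equivMapOfInjective A.subtype A.subtype_injective).symm.toEquiv,
    ← e1, Nat.card_congr (MulAction.orbitEquivQuotientStabilizer ↥A w)]
  exact Subgroup.card_eq_card_quotient_mul_card_subgroup _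

variable (P : Pol G V)

theorem PS_succ (k : ℕ) (p : ℕ → V) : P.PS (k + 1) p = P.PS k p ⊓ MulAction.stabilizer G (p (k + 1)) := by
  ext g
  rw [Subgroup.mem_inf, mem_PS, mem_PS]
  constructor
  · intro h
    exact ⟨fun i hi => h i (by omega), h (k + 1) le_rfl⟩
  · rintro ⟨h1, h2⟩ i hi
    rcases Nat.lt_or_ge i (k + 1) with h | h
    · exact h1 i (by omega)
    · have : i = k + 1 := le_antisymm hi h
      rw [this]; exact h2

theorem PS_zero (p : ℕ → V) : P.PS 0 p = P.S (p 0) := by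
  ext g
  rw [mem_PS]
  constructor
  · intro h; exact h 0 le_rfl
  · intro h i hi
    have : i = 0 := by omega
    rw [this]; exact h

theorem card_nb' (v : V) : Nat.card ↥{w : V | P.adj v w} = P.q (P.tp v) + 1 := P.card_nb v

theorem finite_nb (v : V) : Finite ↥{w : V | P.adj v w} := by
  apply Nat.finite_of_card_ne_zero
  rw [card_nb']; omega

theorem card_nb_ne {v a : V} (ha : P.adj v a) : Nat.card ↥{w : V | P.adj v w ∧ w ≠ a} = P.q (P.tp v) := by
  have h1 := card_nb' P v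
  have hfin : ({w : V | P.adj v w} : Set V).Finite := finite_nb P v
  have e : {w : V | P.adj v w ∧ w ≠ a} = {w : V | P.adj v w} \ {a} := by
    ext w; simp
  rw [Nat.card_coe_set_eq] at h1 ⊢
  rw [e, Set.ncard_sdiff_singleton_of_mem (show a ∈ {w : V | P.adj v w} from ha), h1]
  rfl

/-- the path obtained by replacing the last vertex -/
theorem path_repl {k : ℕ} {p : ℕ → V} (hp : IsPath P.adj (k + 1) p) {w : V} (hw : P.adj (p k) w)
    (hne : 1 ≤ k → w ≠ p (k - 1)) {m : ℕ} (hm : m = k + 1) :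
    IsPath P.adj m (fun j => if j ≤ k then p j else w) := by
  subst hm
  exact psnoc (pmono hp (Nat.le_succ k)) hw hne

theorem card_PS_succ {k : ℕ} {p : ℕ → V} (hk1 : 1 ≤ k) (hk : k ≤ P.n) (hp : IsPath P.adj (k + 1) p) :
    Nat.card ↥(P.PS k p) = P.q (P.tp (p k)) * Nat.card ↥(P.PS (k + 1) p) := by
  have hprev : P.adj (p k) (p (k - 1)) := by
    have := hp.1 (k - 1) (by omega)
    rw [show k - 1 + 1 = k by omega] at this
    exact P.symm this
  rw [PS_succ, ← card_nb_ne P hprev]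
  apply card_orbit
  · rintro x ⟨hx, hx'⟩
    obtain ⟨g, hg⟩ := P.trans (k := k + 1) (by omega) hp (path_repl P hp hx (fun _ => hx') rfl) (by
      rw [if_pos (Nat.zero_le _)])
    refine ⟨g, ?_, ?_⟩
    · rw [mem_PS]
      intro i hi
      have := hg i (by omega)
      rwa [if_pos hi] at this
    · have := hg (k + 1) le_rfl
      rwa [if_neg (by omega)] at this
  · intro g hg
    rw [mem_PS] at hg
    refine ⟨?_, ?_⟩
    · rw [← hg k le_rfl]
      exact P.smul_adj g (hp.1 k (by omega))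
    · intro h
      rw [← hg (k - 1) (by omega)] at h
      have h1 := MulAction.injective g h
      have h2 := hp.2 (k - 1) (by omega)
      rw [show k - 1 + 2 = k + 1 by omega] at h2
      exact h2 h1

theorem card_PS_one {p : ℕ → V} (hp : IsPath P.adj 1 p) :
    Nat.card ↥(P.S (p 0)) = (P.q (P.tp (p 0)) + 1) * Nat.card ↥(P.PS 1 p) := by
  rw [show P.PS 1 p = P.PS 0 p ⊓ MulAction.stabilizer G (p 1) from PS_succ P 0 p, PS_zero, ← card_nb' P (p 0)]
  apply card_orbit
  · intro x hx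
    obtain ⟨g, hg⟩ := P.trans (k := 1) (by omega) hp (pone (show P.adj (p 0) x from hx)) rfl
    exact ⟨g, hg 0 (by omega), hg 1 le_rfl⟩
  · intro g hg
    have hg' : g • p 0 = p 0 := hg
    change P.adj (p 0) (g • p 1)
    conv_lhs => rw [← hg']
    exact P.smul_adj g (hp.1 0 (by omega))

/-- `q true * q false` -/
def Q : ℕ := P.q true * P.q false

theorem Q_eq (b : Bool) : P.q b * P.q (!b) = Q P := by
  cases b
  · exact mul_comm _ _
  · rfl

theorem Q_eq' (b : Bool) : P.q (!b) * P.q b = Q P := by rw [mul_comm, Q_eq]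

theorem card_PS_odd {p : ℕ → V} (j : ℕ) (hj : 2 * j ≤ P.n) (hp : IsPath P.adj (2 * j + 1) p) :
    Nat.card ↥(P.PS 1 p) = Q P ^ j * Nat.card ↥(P.PS (2 * j + 1) p) := by
  induction j with
  | zero => rw [pow_zero, one_mul]
  | succ j ih =>
    have h1 := ih (by omega) (pmono hp (by omega))
    have h2 := card_PS_succ P (k := 2 * j + 1) (by omega) (by omega) (pmono hp (by omega))
    have h3 := card_PS_succ P (k := 2 * j + 2) (by omega) (by omega) (pmono hp (by omega))
    have h4 : P.tp (p (2 * j + 2)) = !P.tp (p (2 * j + 1)) := P.tp_adj (hp.1 (2 * j + 1) (by omega))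
    rw [h1, h2, show 2 * j + 1 + 1 = 2 * j + 2 by ring, h3, h4, pow_succ, ← Q_eq P (P.tp (p (2 * j + 1))),
      show 2 * (j + 1) + 1 = 2 * j + 2 + 1 by ring]
    ring

theorem n_two : 2 * (P.n / 2) = P.n := Nat.mul_div_cancel' (n_even P).two_dvd

/-- **`|S v| = (q v + 1) Q^m |H p|`.** -/
theorem card_S {p : ℕ → V} (hp : IsPath P.adj (P.n + 1) p) :
    Nat.card ↥(P.S (p 0)) = (P.q (P.tp (p 0)) + 1) * Q P ^ (P.n / 2) * Nat.card ↥(P.H p) := by
  have h := n_two P
  rw [card_PS_one P (pmono hp (by omega)), card_PS_odd P (P.n / 2) (by omega) (by rw [h]; exact hp), h]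
  rw [mul_assoc]
  rfl

theorem card_PS_even {p : ℕ → V} {j : ℕ} (hj1 : 1 ≤ j) (hj : 2 * j ≤ P.n) (hp : IsPath P.adj (2 * j) p) :
    Nat.card ↥(P.PS 1 p) = P.q (!P.tp (p 0)) * Q P ^ (j - 1) * Nat.card ↥(P.PS (2 * j) p) := by
  obtain ⟨i, rfl⟩ : ∃ i, j = i + 1 := ⟨j - 1, by omega⟩
  rw [show 2 * (i + 1) = 2 * i + 1 + 1 by ring] at hp ⊢
  rw [card_PS_odd P i (by omega) (pmono hp (by omega)), card_PS_succ P (by omega) (by omega) hp, Nat.add_sub_cancel]
  have h4 : P.tp (p (2 * i + 1)) = !P.tp (p 0) := by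
    rw [tp_path P hp (2 * i + 1) (by omega), if_neg (by simp)]
  rw [h4]; ring

/-- the vertices at distance `k` -/
def D (v : V) (k : ℕ) : Set V := {w | ∃ p : ℕ → V, IsPath P.adj k p ∧ p 0 = v ∧ p k = w}

theorem orbit_D {k : ℕ} (hk : k ≤ P.n) {p : ℕ → V} (hp : IsPath P.adj k p) :
    Nat.card ↥(P.S (p 0)) = Nat.card ↥(D P (p 0) k) * Nat.card ↥(P.S (p 0) ⊓ P.S (p k)) := by
  apply card_orbit
  · rintro x ⟨r, hr, hr0, rfl⟩
    obtain ⟨g, hg⟩ := P.trans (k := k) (by omega) hp hr (by rw [hr0])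
    refine ⟨g, ?_, hg k le_rfl⟩
    have := hg 0 (Nat.zero_le _)
    rw [hr0] at this
    exact this
  · intro g hg
    exact ⟨_, psmul P hp g, hg, rfl⟩

theorem card_D_mid {v : V} {j : ℕ} (hj1 : 1 ≤ j) (hj : 2 * j < P.n) [Finite G] :
    Nat.card ↥(D P v (2 * j)) = (P.q (P.tp v) + 1) * (P.q (!P.tp v) * Q P ^ (j - 1)) := by
  obtain ⟨p, hp, h0⟩ := extend_to P (pzero v) (Nat.zero_le (2 * j))
  have hv : p 0 = v := h0 0 le_rfl
  subst hv
  have h1 := orbit_D P (k := 2 * j) (by omega) hp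
  have h2 : P.S (p 0) ⊓ P.S (p (2 * j)) = P.PS (2 * j) p := by
    ext g
    rw [mem_PS]
    constructor
    · rintro ⟨h3, h4⟩
      exact fix_path P hp hj h3 h4
    · intro h
      exact ⟨h 0 (Nat.zero_le _), h _ le_rfl⟩
  rw [h2, card_PS_one P (pmono hp (by omega)), card_PS_even P hj1 (by omega) hp, ← mul_assoc] at h1
  exact (Nat.eq_of_mul_eq_mul_right Nat.card_pos h1).symm

theorem card_D_opp {v : V} [Finite G] :
    Nat.card ↥(D P v P.n) = P.q (!P.tp v) * Q P ^ (P.n / 2 - 1) := by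
  have h4 := four_le P
  have hn := n_two P
  obtain ⟨p, hp, h0⟩ := extend_to P (pzero v) (Nat.zero_le P.n)
  have hv : p 0 = v := h0 0 le_rfl
  subst hv
  have h1 := orbit_D P (k := P.n) le_rfl hp
  have h2 : Nat.card ↥(P.S (p 0) ⊓ P.S (p P.n)) = (P.q (P.tp (p 0)) + 1) * Nat.card ↥(P.PS P.n p) := by
    have e : P.PS P.n p = P.S (p 0) ⊓ P.S (p P.n) ⊓ MulAction.stabilizer G (p 1) := by
      ext g
      rw [mem_PS]
      constructor
      · intro h
        exact ⟨⟨h 0 (Nat.zero_le _), h _ le_rfl⟩, h 1 (by omega)⟩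
      · rintro ⟨⟨h5, h6⟩, h7⟩
        exact fix_path' P hp h5 h7 h6
    rw [e, ← card_nb' P (p 0)]
    apply card_orbit
    · intro x hx
      have ho : P.Opp (p 0) (p P.n) := ⟨p, hp, rfl, rfl⟩
      have hadj : P.adj (p 0) (p 1) := hp.1 0 (by omega)
      obtain ⟨w, hw, hw1, hw2⟩ := third P (p 0) (p 1) x
      obtain ⟨g, hg, hg1, -⟩ := two_trans' P ho hadj hw hw1.symm hx hw hw2.symm
      exact ⟨g, hg, hg1⟩
    · intro g hg
      have hg' : g • p 0 = p 0 := hg.1
      change P.adj (p 0) (g • p 1)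
      conv_lhs => rw [← hg']
      exact P.smul_adj g (hp.1 0 (by omega))
  have h3 := card_PS_even P (p := p) (j := P.n / 2) (by omega) (by omega) (by rw [hn]; exact hp)
  rw [hn] at h3
  rw [h2, card_PS_one P (pmono hp (by omega)), h3] at h1
  have h5 : (P.q (P.tp (p 0)) + 1) * Nat.card ↥(P.PS P.n p) * (P.q (!P.tp (p 0)) * Q P ^ (P.n / 2 - 1)) =
      (P.q (P.tp (p 0)) + 1) * Nat.card ↥(P.PS P.n p) * Nat.card ↥(D P (p 0) P.n) := by
    calc _ = (P.q (P.tp (p 0)) + 1) * (P.q (!P.tp (p 0)) * Q P ^ (P.n / 2 - 1) * Nat.card ↥(P.PS P.n p)) := by ring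
      _ = _ := by rw [h1]; ring
  exact (Nat.eq_of_mul_eq_mul_left (Nat.mul_pos (Nat.succ_pos _) Nat.card_pos) h5).symm

theorem D_zero (v : V) : D P v 0 = {v} := by
  ext w
  constructor
  · rintro ⟨p, -, rfl, rfl⟩; rfl
  · intro h
    have h' : w = v := h
    subst h'
    exact ⟨fun _ => w, pzero w, rfl, rfl⟩

theorem D_disj {v : V} {k l : ℕ} (hk : k ≤ P.n) (hl : l ≤ P.n) (hne : k ≠ l) : Disjoint (D P v k) (D P v l) := by
  rw [Set.disjoint_left]
  rintro w ⟨p, hp, h0, hpk⟩ ⟨r, hr, hr0, hrl⟩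
  exact hne (P.path_unique hp hr (by rw [h0, hr0]) (by rw [hpk, hrl]) (by omega)).1

theorem V_eq (v : V) : {w : V | P.tp w = P.tp v} = ⋃ j ∈ Finset.range (P.n / 2 + 1), D P v (2 * j) := by
  ext w
  simp only [Set.mem_ofPred_eq, Set.mem_iUnion, Finset.mem_range, exists_prop]
  constructor
  · intro h
    obtain ⟨k, hk, p, hp, h0, hpk⟩ := P.exists_path v w
    obtain ⟨j, hj⟩ := even_of_tp P hp (by rw [h0, hpk, h])
    refine ⟨j, by omega, ?_⟩
    rw [show 2 * j = k by omega]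
    exact ⟨p, hp, h0, hpk⟩
  · rintro ⟨j, -, p, hp, h0, hpk⟩
    rw [← hpk, tp_even P hp (even_two_mul j), h0]

theorem sum_id (a b m : ℕ) (hm : 2 ≤ m) :
    1 + ∑ j ∈ Finset.range (m - 1), (a + 1) * (b * (a * b) ^ j) + b * (a * b) ^ (m - 1) =
      (1 + b) * ∑ j ∈ Finset.range m, (a * b) ^ j := by
  obtain ⟨k, rfl⟩ : ∃ k, m = k + 1 := ⟨m - 1, by omega⟩
  rw [Nat.add_sub_cancel]
  clear hm
  induction k with
  | zero => simp
  | succ k ih =>
    rw [Finset.sum_range_succ, Finset.sum_range_succ _ (k + 1), mul_add, ← ih]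
    ring

/-- the number of vertices of the type of `v`. -/
theorem card_V (v : V) [Finite G] [Finite V] :
    Nat.card ↥{w : V | P.tp w = P.tp v} = (1 + P.q (!P.tp v)) * ∑ j ∈ Finset.range (P.n / 2), Q P ^ j := by
  classical
  have h4 := four_le P
  have hn := n_two P
  have : Fintype V := Fintype.ofFinite V
  have h1 : Nat.card ↥{w : V | P.tp w = P.tp v} = ∑ j ∈ Finset.range (P.n / 2 + 1), Nat.card ↥(D P v (2 * j)) := by
    rw [V_eq]
    simp only [Nat.card_coe_set_eq]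
    have e : ∀ j, (D P v (2 * j)).ncard = (D P v (2 * j)).toFinset.card := fun j => Set.ncard_eq_toFinset_card' _
    rw [Set.ncard_eq_toFinset_card']
    simp only [e]
    rw [← Finset.card_biUnion]
    · congr 1
      ext w
      simp
    · intro i hi j hj hij
      rw [Finset.mem_coe, Finset.mem_range] at hi hj
      rw [Function.onFun, Set.disjoint_toFinset]
      exact D_disj P (by omega) (by omega) (by omega)
  rw [h1, Finset.sum_range_succ, hn, card_D_opp]
  obtain ⟨k, hk⟩ : ∃ k, P.n / 2 = k + 1 := ⟨P.n / 2 - 1, by omega⟩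
  rw [← Q_eq P (P.tp v)]
  have h2 : ∑ j ∈ Finset.range (P.n / 2), Nat.card ↥(D P v (2 * j)) =
      1 + ∑ j ∈ Finset.range (P.n / 2 - 1), (P.q (P.tp v) + 1) * (P.q (!P.tp v) * (P.q (P.tp v) * P.q (!P.tp v)) ^ j) := by
    rw [hk, Finset.sum_range_succ', Nat.add_sub_cancel, add_comm]
    congr 1
    · rw [Nat.mul_zero, D_zero]; simp
    · apply Finset.sum_congr rfl
      intro j hj
      rw [Finset.mem_range] at hj
      rw [card_D_mid P (by omega) (by omega), Nat.add_sub_cancel, ← Q_eq P (P.tp v)]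
  rw [h2, sum_id _ _ _ (by omega)]

theorem card_G_eq (v : V) : Nat.card G = Nat.card ↥{w : V | P.tp w = P.tp v} * Nat.card ↥(P.S v) := by
  have h := card_orbit (A := (⊤ : Subgroup G)) (w := v) (O := {w : V | P.tp w = P.tp v}) (by
    intro x hx
    obtain ⟨g, hg⟩ := P.trans (k := 0) (Nat.zero_le _) (pzero v) (pzero x) (show P.tp v = P.tp x from hx.symm)
    exact ⟨g, Subgroup.mem_top _, hg 0 le_rfl⟩) (fun g _ => P.smul_tp g v)
  rw [top_inf_eq, Subgroup.card_top] at h
  exact h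

/-- **`|G| = (1 + s) (1 + t) (1 + st + ... + (st)^(m-1)) (st)^m |H|`.** -/
theorem card_G [Finite G] [Finite V] {p : ℕ → V} (hp : IsPath P.adj (P.n + 1) p) :
    Nat.card G = (1 + P.q true) * (1 + P.q false) * (∑ j ∈ Finset.range (P.n / 2), Q P ^ j) * Q P ^ (P.n / 2) *
      Nat.card ↥(P.H p) := by
  rw [card_G_eq P (p 0), card_V, card_S P hp]
  cases P.tp (p 0)
  · simp only [Bool.not_false]; ring
  · simp only [Bool.not_true]; ring

theorem ch_eq : ch P.n (P.q true) (P.q false) =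
    (1 + P.q true) * (1 + P.q false) * ∑ j ∈ Finset.range (P.n / 2), Q P ^ j := rfl

theorem ch_eq' (b : Bool) : ch P.n (P.q true) (P.q false) =
    (1 + P.q b) * ((1 + P.q (!b)) * ∑ j ∈ Finset.range (P.n / 2), Q P ^ j) := by
  rw [ch_eq]
  cases b
  · simp only [Bool.not_false]; ring
  · simp only [Bool.not_true]; ring

theorem index_S [Finite G] [Finite V] (v : V) :
    (P.S v).index * (1 + P.q (P.tp v)) = ch P.n (P.q true) (P.q false) := by
  have h1 := card_G_eq P v
  have h2 : (P.S v).index = Nat.card ↥{w : V | P.tp w = P.tp v} := by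
    have h3 := Subgroup.index_mul_card (P.S v)
    rw [h1] at h3
    exact Nat.eq_of_mul_eq_mul_right Nat.card_pos h3
  rw [h2, card_V, ch_eq' P (P.tp v)]
  ring

theorem index_B [Finite G] [Finite V] {x y : V} (h : P.adj x y) :
    (P.S x ⊓ P.S y).index = ch P.n (P.q true) (P.q false) := by
  have h1 := card_PS_one P (pone h)
  have h2 := index_S P x
  have e : P.PS 1 (fun j => if j = 0 then x else y) = P.S x ⊓ P.S y := by
    rw [show P.PS 1 (fun j => if j = 0 then x else y) = P.PS 0 (fun j => if j = 0 then x else y) ⊓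
      MulAction.stabilizer G ((fun j => if j = 0 then x else y) 1) from PS_succ P 0 _, PS_zero]
    rfl
  rw [e] at h1
  change Nat.card ↥(P.S x) = (P.q (P.tp x) + 1) * _ at h1
  have h3 := Subgroup.index_mul_card (P.S x)
  have h4 := Subgroup.index_mul_card (P.S x ⊓ P.S y)
  have h5 : (P.S x ⊓ P.S y).index * Nat.card ↥(P.S x ⊓ P.S y) =
      ch P.n (P.q true) (P.q false) * Nat.card ↥(P.S x ⊓ P.S y) := by
    rw [h4, ← h3, h1, ← h2]; ring
  exact Nat.eq_of_mul_eq_mul_right Nat.card_pos h5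

theorem mem_img {v : V} {X : Subgroup G} {σ : Equiv.Perm {w : V // P.adj v w}} :
    σ ∈ P.img v X ↔ ∃ g : P.S v, (g : G) ∈ X ∧ P.toPerm v g = σ := by
  constructor
  · rintro ⟨g, hg, rfl⟩; exact ⟨g, hg, rfl⟩
  · rintro ⟨g, hg, rfl⟩; exact ⟨g, hg, rfl⟩

theorem card_H [Finite G] [Finite V] (F : Facts P) {p : ℕ → V} (hp : IsPath P.adj (P.n + 1) p) :
    Nat.card ↥(P.H p) ∣ P.T2 (p 1) (p 0) (p 2) * P.T2 (p 2) (p 1) (p 3) := by
  have h4 := four_le P
  have hfix : ∀ g ∈ P.H p, ∀ i, i ≤ P.n + 1 → g • p i = p i := fun g hg => (mem_H P).1 hg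
  let f1 : ↥(P.H p) →* ↥(P.img (p 1) (P.S (p 0) ⊓ P.S (p 2))) :=
    { toFun := fun g => ⟨P.toPerm (p 1) ⟨g, hfix g g.2 1 (by omega)⟩,
        (mem_img P).2 ⟨⟨g, hfix g g.2 1 (by omega)⟩, ⟨hfix g g.2 0 (by omega), hfix g g.2 2 (by omega)⟩, rfl⟩⟩
      map_one' := Subtype.ext (map_one (P.toPerm (p 1)))
      map_mul' := fun a b => Subtype.ext (map_mul (P.toPerm (p 1)) ⟨a, hfix a a.2 1 (by omega)⟩
        ⟨b, hfix b b.2 1 (by omega)⟩) }
  let f2 : ↥(P.H p) →* ↥(P.img (p 2) (P.S (p 1) ⊓ P.S (p 3))) :=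
    { toFun := fun g => ⟨P.toPerm (p 2) ⟨g, hfix g g.2 2 (by omega)⟩,
        (mem_img P).2 ⟨⟨g, hfix g g.2 2 (by omega)⟩, ⟨hfix g g.2 1 (by omega), hfix g g.2 3 (by omega)⟩, rfl⟩⟩
      map_one' := Subtype.ext (map_one (P.toPerm (p 2)))
      map_mul' := fun a b => Subtype.ext (map_mul (P.toPerm (p 2)) ⟨a, hfix a a.2 2 (by omega)⟩
        ⟨b, hfix b b.2 2 (by omega)⟩) }
  have hinj : Function.Injective (f1.prod f2) := by
    rw [injective_iff_map_eq_one]
    intro g hg
    rw [MonoidHom.prod_apply, Prod.mk_eq_one] at hg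
    obtain ⟨hg1, hg2⟩ := hg
    apply Subtype.ext
    refine F.rigid hp (i := 1) (by omega) ⟨hfix g g.2 1 (by omega), fun w hw => ?_⟩
      ⟨hfix g g.2 2 (by omega), fun w hw => ?_⟩ g.2
    · have h5 := congrArg Subtype.val hg1
      have h6 := congrArg (fun σ : Equiv.Perm {w : V // P.adj (p 1) w} => ((σ ⟨w, hw⟩ : {w : V // P.adj (p 1) w}) : V)) h5
      exact h6
    · have h5 := congrArg Subtype.val hg2
      have h6 := congrArg (fun σ : Equiv.Perm {w : V // P.adj (p 2) w} => ((σ ⟨w, hw⟩ : {w : V // P.adj (p 2) w}) : V)) h5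
      exact h6
  have h5 := Subgroup.card_dvd_of_injective _ hinj
  rw [Nat.card_prod] at h5
  exact h5

/-- **`FactsE`** -/
theorem factsE [Finite G] [Finite V] (F : Facts P) : FactsE P where
  card_G := fun hp => card_G P hp
  index_S := fun v => index_S P v
  index_B := fun h => index_B P h
  card_H := fun hp => card_H P F hp

/-! ### `StPath` -/

/-- the iterated commutator subgroups of a subgroup -/
def DS (B : Subgroup G) : ℕ → Subgroup G
  | 0 => B
  | n + 1 => ⁅DS B n, DS B n⁆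

theorem DS_le (B : Subgroup G) (n : ℕ) : DS B n ≤ B := by
  induction n with
  | zero => exact le_rfl
  | succ n ih => exact (Subgroup.commutator_mono ih ih).trans (Subgroup.commutator_le_self B)

theorem DS_le_derived (B : Subgroup G) (n : ℕ) : DS B n ≤ derivedSeries G n := by
  induction n with
  | zero => exact le_top
  | succ n ih => exact Subgroup.commutator_mono ih ih

/-- `D^n(B) ≤ T` for some `n` if `G / T` is solvable. -/
theorem exists_DS_le (T : Subgroup G) [T.Normal] (h : Group.IsSolvable (G ⧸ T)) : ∃ n, ∀ B : Subgroup G, DS B n ≤ T := by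
  obtain ⟨n, hn⟩ := h
  refine ⟨n, fun B => (DS_le_derived B n).trans ?_⟩
  have h1 := map_derivedSeries_le_derivedSeries (QuotientGroup.mk' T) n
  rw [hn, le_bot_iff] at h1
  have h2 := (Subgroup.map_eq_bot_iff _).1 h1
  rwa [QuotientGroup.ker_mk'] at h2

theorem img_mono {v : V} {X Y : Subgroup G} (h : X ≤ Y) : P.img v X ≤ P.img v Y := by
  intro σ hσ
  rw [mem_img] at hσ ⊢
  obtain ⟨g, hg, rfl⟩ := hσ
  exact ⟨g, h hg, rfl⟩

theorem img_comm {v : V} {X : Subgroup G} : ⁅P.img v X, P.img v X⁆ ≤ P.img v ⁅X, X⁆ := by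
  rw [Subgroup.commutator_le]
  intro σ hσ τ hτ
  rw [mem_img] at hσ hτ ⊢
  obtain ⟨g, hg, rfl⟩ := hσ
  obtain ⟨k, hk, rfl⟩ := hτ
  refine ⟨⁅g, k⁆, Subgroup.commutator_mem_commutator hg hk, map_commutatorElement _ _ _⟩

theorem perfect_le_img {v : V} {X : Subgroup (Equiv.Perm {w : V // P.adj v w})} (hX : ⁅X, X⁆ = X) {B : Subgroup G}
    (h : X ≤ P.img v B) (n : ℕ) : X ≤ P.img v (DS B n) := by
  induction n with
  | zero => exact h
  | succ n ih =>
    calc X = ⁅X, X⁆ := hX.symm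
      _ ≤ ⁅P.img v (DS B n), P.img v (DS B n)⁆ := Subgroup.commutator_mono ih ih
      _ ≤ _ := img_comm P

/-- a non-abelian simple subgroup is perfect -/
theorem perfect_of_simple {K : Type*} [Group K] {X : Subgroup K} (hs : IsSimpleGroup ↥X) (hc : ¬ IsMulCommutative ↥X) :
    ⁅X, X⁆ = X := by
  have h1 : (commutator ↥X) = ⊤ := by
    rcases hs.eq_bot_or_eq_top_of_normal (commutator ↥X) inferInstance with h | h
    · exfalso
      apply hc
      refine ⟨⟨fun a b => ?_⟩⟩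
      have h2 : ⁅a, b⁆ ∈ commutator ↥X := Subgroup.commutator_mem_commutator (Subgroup.mem_top _) (Subgroup.mem_top _)
      rw [h, Subgroup.mem_bot, commutatorElement_eq_one_iff_mul_comm] at h2
      exact h2
    · exact h
  have h2 := congrArg (Subgroup.map X.subtype) h1
  rw [commutator_def, Subgroup.map_commutator, ← MonoidHom.range_eq_map, Subgroup.range_subtype] at h2
  exact h2

/-- `T` is locally 2-transitive -/
theorem T_two {T : Subgroup G} [T.Normal] (h : Group.IsSolvable (G ⧸ T)) {v v' : V} (hS : SimpTwo (P.L' v v'))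
    {a b a' b' : V} (ha : P.adj v a) (hb : P.adj v b) (hab : a ≠ b) (ha' : P.adj v a') (hb' : P.adj v b') (hab' : a' ≠ b') :
    ∃ g ∈ T ⊓ (P.S v ⊓ P.S v'), g • a = a' ∧ g • b = b' := by
  obtain ⟨n, hn⟩ := exists_DS_le T h
  obtain ⟨X, hXL, -, hs, hc, h2⟩ := hS
  have h3 := perfect_le_img P (perfect_of_simple hs hc) hXL n
  obtain ⟨σ, hσ, h4, h5⟩ := h2 ⟨a, ha⟩ ⟨b, hb⟩ ⟨a', ha'⟩ ⟨b', hb'⟩ (fun e => hab (congrArg Subtype.val e))
    (fun e => hab' (congrArg Subtype.val e))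
  obtain ⟨g, hg, rfl⟩ := (mem_img P).1 (h3 hσ)
  exact ⟨g, ⟨hn _ hg, DS_le _ _ hg⟩, congrArg Subtype.val h4, congrArg Subtype.val h5⟩

/-- `T ⊓ PS k p` is transitive on the extensions -/
theorem T_PS_succ {T : Subgroup G} [T.Normal] (h : Group.IsSolvable (G ⧸ T))
    (hS : ∀ v v' : V, P.Opp v v' → SimpTwo (P.L' v v')) {k : ℕ} {p : ℕ → V} (hk1 : 1 ≤ k) (hk : k ≤ P.n)
    (hp : IsPath P.adj (k + 1) p) :
    Nat.card ↥(T ⊓ P.PS k p) = P.q (P.tp (p k)) * Nat.card ↥(T ⊓ P.PS (k + 1) p) := by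
  have h4 := four_le P
  have hprev : P.adj (p k) (p (k - 1)) := by
    have := hp.1 (k - 1) (by omega)
    rw [show k - 1 + 1 = k by omega] at this
    exact P.symm this
  rw [PS_succ, ← inf_assoc, ← card_nb_ne P hprev]
  apply card_orbit
  · rintro x ⟨hx, hx'⟩
    -- the reversed path, extended
    obtain ⟨r, hr, hri⟩ := extend_to P (prev P.symm (pmono hp (Nat.le_succ k))) hk
    have hr0 : r 0 = p k := hri 0 (Nat.zero_le _)
    have hr1 : r 1 = p (k - 1) := hri 1 hk1
    have ho : P.Opp (p k) (r P.n) := ⟨r, hr, hr0, rfl⟩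
    have hne : p (k + 1) ≠ p (k - 1) := by
      have h2 := hp.2 (k - 1) (by omega)
      rwa [show k - 1 + 2 = k + 1 by omega] at h2
    obtain ⟨g, hg, hg1, hg2⟩ := T_two P h (hS _ _ ho) hprev (hp.1 k (by omega)) hne.symm hprev hx (Ne.symm hx')
    refine ⟨g, ⟨hg.1, ?_⟩, hg2⟩
    have h5 := fix_path' P hr (g := g) (by rw [hr0]; exact hg.2.1) (by rw [hr1]; exact hg1) hg.2.2
    refine (mem_PS P).2 ?_
    intro i hi
    have h6 := h5 (k - i) (by omega)
    rw [hri (k - i) (by omega), show k - (k - i) = i by omega] at h6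
    exact h6
  · intro g hg
    have hg' := (mem_PS P).1 hg.2
    refine ⟨?_, ?_⟩
    · rw [← hg' k le_rfl]
      exact P.smul_adj g (hp.1 k (by omega))
    · intro h
      rw [← hg' (k - 1) (by omega)] at h
      have h1 := MulAction.injective g h
      have h2 := hp.2 (k - 1) (by omega)
      rw [show k - 1 + 2 = k + 1 by omega] at h2
      exact h2 h1

theorem T_PS_odd {T : Subgroup G} [T.Normal] (h : Group.IsSolvable (G ⧸ T))
    (hS : ∀ v v' : V, P.Opp v v' → SimpTwo (P.L' v v')) {p : ℕ → V} (j : ℕ) (hj : 2 * j ≤ P.n)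
    (hp : IsPath P.adj (2 * j + 1) p) :
    Nat.card ↥(T ⊓ P.PS 1 p) = Q P ^ j * Nat.card ↥(T ⊓ P.PS (2 * j + 1) p) := by
  induction j with
  | zero => rw [pow_zero, one_mul]
  | succ j ih =>
    have h1 := ih (by omega) (pmono hp (by omega))
    have h2 := T_PS_succ P h hS (k := 2 * j + 1) (by omega) (by omega) (pmono hp (by omega))
    have h3 := T_PS_succ P h hS (k := 2 * j + 2) (by omega) (by omega) (pmono hp (by omega))
    have h4 : P.tp (p (2 * j + 2)) = !P.tp (p (2 * j + 1)) := P.tp_adj (hp.1 (2 * j + 1) (by omega))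
    rw [h1, h2, show 2 * j + 1 + 1 = 2 * j + 2 by ring, h3, h4, pow_succ, ← Q_eq P (P.tp (p (2 * j + 1))),
      show 2 * (j + 1) + 1 = 2 * j + 2 + 1 by ring]
    ring

/-- a supplement of a normal subgroup -/
theorem card_of_sup [Finite G] {B T : Subgroup G} [T.Normal] (h : B ⊔ T = ⊤) :
    Nat.card ↥T = B.index * Nat.card ↥(T ⊓ B) := by
  have h1 : T.index = T.relIndex B := by
    rw [← Subgroup.relIndex_top_right T, ← h, Subgroup.relIndex_sup_right]
  have h2 := Subgroup.index_mul_card T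
  have h3 := Subgroup.index_mul_card B
  have h4 : T.index * Nat.card ↥(T ⊓ B) = Nat.card ↥B := by
    have h5 := Subgroup.index_mul_card (T.subgroupOf B)
    rw [Nat.card_congr ((T.subgroupOf B).equivMapOfInjective B.subtype B.subtype_injective).toEquiv,
      Subgroup.subgroupOf_map_subtype] at h5
    rw [h1]; exact h5
  have h5 : T.index * Nat.card ↥T = T.index * (B.index * Nat.card ↥(T ⊓ B)) := by
    rw [h2, ← h3, ← h4]; ring
  exact Nat.eq_of_mul_eq_mul_left (Nat.pos_of_ne_zero Subgroup.index_ne_zero_of_finite) h5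

/-- **`StPath`** -/
theorem st_path : StPath.{u, v} := by
  intro G _ _ V _ _ P F FE T _ hsol hS p hp hB
  have hn := n_two P
  have h1 := T_PS_odd P hsol hS (P.n / 2) (by omega) (by rw [hn]; exact hp)
  rw [hn] at h1
  have h2 : P.PS 1 p = P.S (p 0) ⊓ P.S (p 1) := by
    rw [show P.PS 1 p = P.PS 0 p ⊓ MulAction.stabilizer G (p 1) from PS_succ P 0 p, PS_zero]
  rw [card_of_sup hB, ← h2, h1, h2, FE.index_B (hp.1 0 (by omega)), mul_assoc]
  rfl

end Cfsg.Agent.H736.Tits
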